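import Groth.Prelude.Def_GmAct
import Mathlib.AlgebraicGeometry.Morphisms.Separated
import Mathlib.AlgebraicGeometry.Morphisms.ClosedImmersion
import Mathlib.AlgebraicGeometry.Morphisms.IsIso
import Mathlib.AlgebraicGeometry.Pullbacks
import Mathlib.Algebra.Polynomial.Laurent

/-!
`j ▷ T : G_m × T → A¹ × T` is an epimorphism towards separated targets, for every `R`-scheme `T`.
-/

set_option autoImplicit false
set_option backward.isDefEq.respectTransparency false
set_option backward.isDefEq.respectTransparency.types false

universe u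

noncomputable section

open CategoryTheory CategoryTheory.Limits MonoidalCategory CartesianMonoidalCategory AlgebraicGeometry
open scoped TensorProduct Polynomial

namespace Groth.Agent.LineDense66

/-- Maps out of an affine scheme into a separated scheme are determined after an injective ring map. -/
theorem spec_hom_ext {Y S : Scheme.{u}} (z : Y ⟶ S) [IsSeparated z] {A B : CommRingCat.{u}} (φ : A ⟶ B)
    (hφ : Function.Injective φ) (v₁ v₂ : Spec A ⟶ Y) (hz : v₁ ≫ z = v₂ ≫ z)
    (h : Spec.map φ ≫ v₁ = Spec.map φ ≫ v₂) : v₁ = v₂ := by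
  let l : Spec A ⟶ pullback z z := pullback.lift v₁ v₂ hz
  let i : pullback l (pullback.diagonal z) ⟶ Spec A := pullback.fst _ _
  have : IsClosedImmersion i := MorphismProperty.pullback_fst _ _ inferInstance
  obtain ⟨haff, hsurj⟩ := IsClosedImmersion.isAffine_surjective_of_isAffine i
  let s : Spec B ⟶ pullback l (pullback.diagonal z) := pullback.lift (Spec.map φ) (Spec.map φ ≫ v₁) (by
    apply pullback.hom_ext <;> simp [l, h])
  have hfac : s ≫ i = Spec.map φ := pullback.lift_fst _ _ _
  have hinj : Function.Injective (Spec.map φ).appTop := by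
    have e := Scheme.ΓSpecIso_naturality φ
    intro a b hab
    have := congrArg (Scheme.ΓSpecIso _).hom hab
    rw [← CommRingCat.comp_apply, ← CommRingCat.comp_apply, e] at this
    exact (Scheme.ΓSpecIso _).commRingCatIsoToRingEquiv.injective (hφ this)
  rw [← hfac, Scheme.Hom.comp_appTop] at hinj
  have : IsIso i.appTop :=
    (ConcreteCategory.isIso_iff_bijective _).2 ⟨Function.Injective.of_comp hinj, hsurj⟩
  have : IsIso i :=
    (HasAffineProperty.iff_of_isAffine (P := MorphismProperty.isomorphisms Scheme) (f := i)).2 ⟨haff, this⟩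
  have c := pullback.condition (f := l) (g := pullback.diagonal z)
  have c1 := congrArg (fun q => q ≫ pullback.fst z z) c
  have c2 := congrArg (fun q => q ≫ pullback.snd z z) c
  simp only [l, Category.assoc, pullback.lift_fst, pullback.lift_snd, pullback.diagonal_fst, pullback.diagonal_snd,
    Category.comp_id] at c1 c2
  exact (cancel_epi i).1 (c1.trans c2.symm)

variable (R : Type u) [CommRing R]

/-- The point `z` of the line, i.e. the inclusion `G_m ⟶ A¹`. -/
abbrev jAlg : R[X] →ₐ[R] ThetaS.Lau R := ThetaS.linePt (ThetaS.zPow R 1)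

theorem jAlg_monomial (n : ℕ) (r : R) :
    jAlg R (Polynomial.monomial n r) = MonoidAlgebra.single (Multiplicative.ofAdd (n : ℤ)) r := by
  rw [jAlg, ThetaS.linePt, Polynomial.aeval_monomial, MonoidAlgebra.single_pow, ← Algebra.smul_def,
    MonoidAlgebra.smul_single, ← ofAdd_nsmul, one_pow, smul_eq_mul, mul_one]
  simp

/-- A retraction of `R[x] → R[z, z⁻¹]`. -/
def retr : ThetaS.Lau R →ₗ[R] R[X] :=
  (Finsupp.lsum R fun m : Multiplicative ℤ =>
    if 0 ≤ m.toAdd then (Polynomial.monomial m.toAdd.toNat : R →ₗ[R] R[X]) else 0).comp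
    (MonoidAlgebra.coeffLinearEquiv R).toLinearMap

theorem retr_jAlg (p : R[X]) : retr R (jAlg R p) = p := by
  induction p using Polynomial.induction_on' with
  | add p q hp hq => rw [map_add, map_add, hp, hq]
  | monomial n r =>
    rw [jAlg_monomial]
    simp [retr, MonoidAlgebra.coeff_single]

theorem jAlg_tensor_injective (B : Type u) [CommRing B] [Algebra R B] :
    Function.Injective (Algebra.TensorProduct.map (jAlg R) (AlgHom.id R B)) := by
  have : Function.LeftInverse (LinearMap.rTensor B (retr R)) (LinearMap.rTensor B (jAlg R).toLinearMap) := fun w => by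
    rw [← LinearMap.comp_apply, ← LinearMap.rTensor_comp,
      show (retr R).comp (jAlg R).toLinearMap = LinearMap.id from LinearMap.ext (retr_jAlg R),
      LinearMap.rTensor_id, LinearMap.id_apply]
  exact this.injective

variable {R}
variable (T : Over (Spec (CommRingCat.of R)))

/-- The chart of a product over an affine piece. -/
def prodChart (B : Type u) [CommRing B] [Algebra R B] (g : Spec (CommRingCat.of B) ⟶ T.left)
    (hg : g ≫ T.hom = Spec.map (CommRingCat.ofHom (algebraMap R B))) (A : Type u) [CommRing A] [Algebra R A] :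
    Spec (CommRingCat.of (A ⊗[R] B)) ⟶ (CoactBr.sp R A ⊗ T).left :=
  (pullbackSpecIso R A B).inv ≫
    pullback.map (Spec.map (CommRingCat.ofHom (algebraMap R A))) (Spec.map (CommRingCat.ofHom (algebraMap R B)))
      (CoactBr.sp R A).hom T.hom (𝟙 _) g (𝟙 _) (by rw [Category.comp_id, Category.id_comp]; rfl)
      (by rw [Category.comp_id, hg])

theorem prodChart_natural (B : Type u) [CommRing B] [Algebra R B] (g : Spec (CommRingCat.of B) ⟶ T.left)
    (hg : g ≫ T.hom = Spec.map (CommRingCat.ofHom (algebraMap R B))) {A A' : Type u} [CommRing A] [Algebra R A]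
    [CommRing A'] [Algebra R A'] (φ : A →ₐ[R] A') :
    Spec.map (CommRingCat.ofHom (Algebra.TensorProduct.map φ (AlgHom.id R B)).toRingHom) ≫ prodChart T B g hg A =
      prodChart T B g hg A' ≫ (CoactBr.pt φ ▷ T).left := by
  rw [Over.whiskerRight_left]
  apply pullback.hom_ext
  · simp only [prodChart, Category.assoc, pullback.lift_fst, pullback.lift_fst_assoc, Category.comp_id,
      pullbackSpecIso_inv_fst, pullbackSpecIso_inv_fst_assoc]
    erw [CoactBr.pt_left]
    rw [← Spec.map_comp, ← Spec.map_comp]
    congr 1
  · simp only [prodChart, Category.assoc, pullback.lift_snd, pullback.lift_snd_assoc, Category.comp_id,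
      pullbackSpecIso_inv_snd_assoc]
    rw [← Category.assoc, ← Spec.map_comp]
    congr 2
    ext b
    simp

/-- Morphisms `A¹ × T → X` into a separated `X` are determined on `G_m × T`. -/
theorem line_hom_ext {X : Over (Spec (CommRingCat.of R))} [IsSeparated X.hom]
    (u v : ThetaS.Line R ⊗ T ⟶ X)
    (h : ((CoactBr.pt (jAlg R) : ThetaS.Gm R ⟶ ThetaS.Line R) ▷ T) ≫ u = (CoactBr.pt (jAlg R) ▷ T) ≫ v) : u = v := by
  have key : ∀ (B : Type u) [CommRing B] [Algebra R B] (g : Spec (CommRingCat.of B) ⟶ T.left)
      (hg : g ≫ T.hom = Spec.map (CommRingCat.ofHom (algebraMap R B))),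
      prodChart T B g hg R[X] ≫ u.left = prodChart T B g hg R[X] ≫ v.left := by
    intro B _ _ g hg
    refine spec_hom_ext X.hom (CommRingCat.ofHom (Algebra.TensorProduct.map (jAlg R) (AlgHom.id R B)).toRingHom)
      (jAlg_tensor_injective R B) _ _ ?_ ?_
    · rw [Category.assoc, Category.assoc]
      erw [Over.w u, Over.w v]
    · rw [← Category.assoc, ← Category.assoc, prodChart_natural, Category.assoc, Category.assoc]
      congr 1
      exact congrArg CommaMorphism.left h
  apply Over.OverMorphism.ext
  let 𝒰 := T.left.affineCover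
  refine (Scheme.Pullback.openCoverOfRight 𝒰 (ThetaS.Line R).hom T.hom).hom_ext _ _ fun i => ?_
  let Bc : CommRingCat.{u} := ((T.left.local_affine i).choose_spec).choose
  let g : Spec Bc ⟶ T.left := 𝒰.f i
  letI : Algebra R Bc := (Spec.preimage (g ≫ T.hom)).hom.toAlgebra
  have hg : g ≫ T.hom = Spec.map (CommRingCat.ofHom (algebraMap R Bc)) := (Spec.map_preimage _).symm
  have hk := key Bc g hg
  rw [prodChart, Category.assoc, Category.assoc, cancel_epi] at hk
  let e : pullback (ThetaS.Line R).hom (g ≫ T.hom) ⟶
      pullback (Spec.map (CommRingCat.ofHom (algebraMap R R[X]))) (Spec.map (CommRingCat.ofHom (algebraMap R Bc))) :=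
    pullback.lift (pullback.fst _ _) (pullback.snd _ _) (by rw [← hg]; exact pullback.condition)
  have he : (Scheme.Pullback.openCoverOfRight 𝒰 (ThetaS.Line R).hom T.hom).f i =
      e ≫ pullback.map (Spec.map (CommRingCat.ofHom (algebraMap R R[X])))
        (Spec.map (CommRingCat.ofHom (algebraMap R Bc))) (ThetaS.Line R).hom T.hom (𝟙 _) g (𝟙 _)
        (by rw [Category.comp_id, Category.id_comp]; rfl) (by rw [Category.comp_id, hg]) := by
    apply pullback.hom_ext
    · rw [Category.assoc, pullback.lift_fst, Category.comp_id, pullback.lift_fst]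
      exact (pullback.lift_fst _ _ _).trans (Category.comp_id _)
    · rw [Category.assoc, pullback.lift_snd, ← Category.assoc, pullback.lift_snd]
      exact pullback.lift_snd _ _ _
  rw [he, Category.assoc, Category.assoc]
  exact congrArg (e ≫ ·) hk

end Groth.Agent.LineDense66
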